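import Groth.Agent.LeadFBC.Sheaf
import Groth.Agent.LeadBC.BaseChange
import Groth.Agent.H10Coh.AffinePush
import Groth.Agent.H29Fitt.PullbackQCoh

/-!
# Base change with coefficients

For a cartesian square over `A → A'` and an `A'`-module `M` flat over `A`, the cohomology of
`q^* F ⊗ M~` is `M ⊗_A H^n(X, F)`, linearly over `A'`.
-/

set_option autoImplicit false
set_option linter.style.haveILetI false
set_option linter.unusedSectionVars false
set_option linter.unusedVariables false

universe u

open AlgebraicGeometry CategoryTheory CategoryTheory.Limits CategoryTheory.Abelian TopologicalSpace Opposite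
open scoped TensorProduct

noncomputable section

namespace Groth.Agent.LeadFBC

open Groth.Agent.H10Coh Groth.Agent.LeadBC Groth.Agent.LeadFF Groth.Agent.H11Ample

attribute [local instance 10000] hasSheafifyAb hasWeakSheafifyAb hasExtAb enoughInjAb

theorem postComp_comp {T : TopCat.{u}} {U : Opens T} {F₁ F₂ F₃ : CohTop.Ab T} {n : ℕ} (x : Hn F₁ n U)
    (f : F₁ ⟶ F₂) (g : F₂ ⟶ F₃) :
    x.comp (Ext.mk₀ (f ≫ g)) (add_zero n) = postH g n U (x.comp (Ext.mk₀ f) (add_zero n)) := by
  rw [postH_apply, Ext.comp_assoc_of_second_deg_zero, Ext.mk₀_comp_mk₀]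

variable (A A' : Type u) [CommRing A] [CommRing A'] [Algebra A A'] {X X' : Scheme.{u}}
  [X.Over (Spec (CommRingCat.of A))] [X'.Over (Spec (CommRingCat.of A'))] {q : X' ⟶ X}
  (hsq : IsPullback q (X' ↘ Spec (CommRingCat.of A')) (X ↘ Spec (CommRingCat.of A))
    (Spec.map (CommRingCat.ofHom (algebraMap A A'))))
  (F : X.Modules) [F.IsQuasicoherent]
  (M : Type u) [AddCommGroup M] [Module A' M] [Module A M] [IsScalarTower A A' M]

/-- `M~ ⊗ q^* F`. -/
abbrev GX' : X'.Modules := (CohIII.tensorAFunctor A' (qF q F)).obj (ModuleCat.of A' M)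

instance qF_isQuasicoherent : (qF q F).IsQuasicoherent := H29Fitt.isQCoh_pullback q F ‹_›

instance GX'_isQuasicoherent : (GX' A' F M (q := q)).IsQuasicoherent := isQCoh_GM A' _ _

/-- `x ↦ q^* x ⊗ m`, into the direct image. -/
def bcHom (m : M) : F ⟶ (Scheme.Modules.pushforward q).obj (GX' A' F M (q := q)) :=
  (Scheme.Modules.pullbackPushforwardAdjunction q).homEquiv _ _ (uMap A' (qF q F) (ModuleCat.of A' M) m)

theorem bcHom_app (m : M) {V : X.Opens} (hV : IsAffineOpen (q ⁻¹ᵁ V)) (x : Γ(F, V)) :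
    (bcHom A' F M (q := q) m).app V x = τ₀ A' (qF q F) (ModuleCat.of A' M) (q ⁻¹ᵁ V)
      ((OmegaSh.pullSect q F V x : sec A' (qF q F) (q ⁻¹ᵁ V)) ⊗ₜ (m : ModuleCat.of A' M)) :=
  uMap_app A' (qF q F) (ModuleCat.of A' M) m hV _

theorem bcHom_add (m m' : M) :
    bcHom A' F M (q := q) (m + m') = bcHom A' F M (q := q) m + bcHom A' F M (q := q) m' := by
  show ((Scheme.Modules.pullbackPushforwardAdjunction q).homEquiv _ _)
    (uMap A' (qF q F) (ModuleCat.of A' M) ((m : ModuleCat.of A' M) + m')) = _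
  rw [uMap_add, Adjunction.homEquiv_unit, Functor.map_add, Preadditive.comp_add]
  rfl

include hsq in
theorem bcHom_smul (a : A) (m : M) :
    bcHom A' F M (q := q) (a • m) = Formal.smulMod A F a ≫ bcHom A' F M (q := q) m :=
  hom_ext_affine _ _ fun V hV x => by
    haveI := isAffineHom_fst hsq
    show (bcHom A' F M (q := q) (a • m)).app V x =
      (bcHom A' F M (q := q) m).app V ((Formal.smulMod A F a).app V x)
    rw [bcHom_app A' F M _ (hV.preimage q), bcHom_app A' F M _ (hV.preimage q), smulMod_app,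
      OmegaSh.pullSect_smul, app_scal hsq V a]
    let y : sec A' (qF q F) (q ⁻¹ᵁ V) := OmegaSh.pullSect q F V x
    let m' : ModuleCat.of A' M := m
    have h : y ⊗ₜ[A'] ((algebraMap A A' a • m : M) : ModuleCat.of A' M) = (algebraMap A A' a • y) ⊗ₜ[A'] m' := by
      rw [← TensorProduct.smul_tmul]
    rw [← IsScalarTower.algebraMap_smul A' a m]
    exact congrArg (τ₀ A' (qF q F) (ModuleCat.of A' M) (q ⁻¹ᵁ V)) h

/-- The pairing into the direct image. -/
def μBC : M →+ (sh F ⟶ sh ((Scheme.Modules.pushforward q).obj (GX' A' F M (q := q)))) :=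
  AddMonoidHom.mk' (fun m => (shF X).map (bcHom A' F M (q := q) m)) fun m m' => by
    rw [bcHom_add, Functor.map_add]

include hsq in
theorem μBC_smul (a : A) (m : M) : μBC A' F M (q := q) (a • m) = ρF A F a ≫ μBC A' F M (q := q) m := by
  show (shF X).map (bcHom A' F M (q := q) (a • m)) = _ ≫ (shF X).map (bcHom A' F M (q := q) m)
  rw [bcHom_smul A A' hsq, Functor.map_comp]
  rfl

/-- Pullback of sections, extended to `A'`. -/
def pullExt (V : X.Opens) : A' ⊗[A] sec A F V →ₗ[A'] sec A' (qF q F) (q ⁻¹ᵁ V) :=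
  letI : Module A (sec A' (qF q F) (q ⁻¹ᵁ V)) := Module.compHom _ (algebraMap A A')
  haveI : IsScalarTower A A' (sec A' (qF q F) (q ⁻¹ᵁ V)) := .of_algebraMap_smul fun _ _ => rfl
  LinearMap.liftBaseChange A'
    { toFun := fun x => (pullRes F q (le_refl (q ⁻¹ᵁ V)) x : sec A' (qF q F) (q ⁻¹ᵁ V))
      map_add' := fun x y => pullRes_add F (le_refl (q ⁻¹ᵁ V)) x y
      map_smul' := fun a x => pullRes_smul A' hsq F (le_refl (q ⁻¹ᵁ V)) a x }

theorem bijective_pullExt {V : X.Opens} (hV : IsAffineOpen V) :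
    Function.Bijective (pullExt A A' hsq F V) := by
  have h : ∀ z, (pullExt A A' hsq F V z : Γ(qF q F, q ⁻¹ᵁ V)) =
      (β A' hsq F (le_refl (q ⁻¹ᵁ V)) (TensorProduct.comm A A' (sec A F V) z) : Γ(qF q F, q ⁻¹ᵁ V)) := fun z => by
    induction z using TensorProduct.induction_on with
    | zero => rw [map_zero, map_zero, map_zero]; rfl
    | add x y hx hy =>
      rw [map_add, map_add, map_add]
      exact congrArg₂ (· + ·) hx hy
    | tmul s x => rfl
  rw [funext h]
  exact (bijective_β A' hsq F hV rfl le_rfl).comp (TensorProduct.comm A A' (sec A F V)).bijective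

theorem good_bc [Module.Flat A M] [CompactSpace X] [QuasiSeparatedSpace X] :
    Good (ρF A F) (μBC A' F M (q := q)) (μBC_smul A A' hsq F M) (Zsh (⊤ : X.Opens)) := by
  haveI := isAffineHom_fst hsq
  refine good_of_isCompact A F (ModuleCat.of A M) (μBC A' F M (q := q)) (μBC_smul A A' hsq F M) (fun V hV => ?_) ⊤
    (by simpa using isCompact_univ)
  haveI : ((Scheme.Modules.pushforward q).obj (GX' A' F M (q := q))).IsQuasicoherent :=
    isQuasicoherent_pushforward_of_isAffineHom q _
  refine good_affine_gen A F (ModuleCat.of A M) _ _ hV ?_ (subsingleton_HnM_of_isAffineOpen _ hV)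
  let e₁ := (TensorProduct.AlgebraTensorModule.cancelBaseChange A A' A' M (sec A F V)).symm
  have h : ∀ z, pairSec A F (ModuleCat.of A M) (μBC A' F M (q := q)) (μBC_smul A A' hsq F M) V z =
      τ₀ A' (qF q F) (ModuleCat.of A' M) (q ⁻¹ᵁ V) (TensorProduct.comm A' (ModuleCat.of A' M) _
        ((pullExt A A' hsq F V).lTensor (ModuleCat.of A' M) (e₁ z))) := fun z => by
    induction z using TensorProduct.induction_on with
    | zero => simp only [map_zero]; rfl
    | add x y hx hy => simp only [map_add, hx, hy]; rfl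
    | tmul m x =>
      refine (bcHom_app A' F M m (hV.preimage q) x).trans ?_
      refine congrArg (τ₀ A' (qF q F) (ModuleCat.of A' M) (q ⁻¹ᵁ V)) ?_
      show _ = ((pullExt A A' hsq F V) ((1 : A') ⊗ₜ x)) ⊗ₜ[A'] (m : ModuleCat.of A' M)
      refine congrArg (· ⊗ₜ[A'] (m : ModuleCat.of A' M)) ?_
      show (OmegaSh.pullSect q F V x : Γ(qF q F, q ⁻¹ᵁ V)) = sc A' (q ⁻¹ᵁ V) 1 • pullRes F q le_rfl x
      rw [map_one, one_smul]
      exact (congr($((qF q F).presheaf.map_id (op (q ⁻¹ᵁ V))) (OmegaSh.pullSect q F V x))).symm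
  rw [funext h]
  exact (bijective_τ₀ A' (qF q F) (ModuleCat.of A' M) (hV.preimage q)).comp
    ((TensorProduct.comm A' (ModuleCat.of A' M) _).bijective.comp
      ((TensorProduct.congr (LinearEquiv.refl A' M)
        (LinearEquiv.ofBijective _ (bijective_pullExt A A' hsq F hV))).bijective.comp e₁.bijective))

include hsq in
/-- Base change with coefficients. -/
theorem nonempty_bc_equiv [Module.Flat A M] [CompactSpace X] [QuasiSeparatedSpace X] (n : ℕ) :
    Nonempty (M ⊗[A] Coh.HH X F n ≃ₗ[A'] Coh.HH X' (GX' A' F M (q := q)) n) := by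
  haveI := isAffineHom_fst hsq
  let G := GX' A' F M (q := q)
  let e : Coh.HH X F n ≃ₗ[A] extMod (ρF A F) (Zsh (⊤ : X.Opens)) n :=
    { HHEquiv F n with map_smul' := fun a x => HHEquiv_smul' F n a x }
  let L := affineLerayEquiv q G n ⊤
  let T : M ⊗[A] Coh.HH X F n →+ HnM G n ⊤ := (L.toAddMonoidHom.comp
    (θ (ρF A F) (μBC A' F M (q := q)) (μBC_smul A A' hsq F M) (Zsh (⊤ : X.Opens)) n)).comp
    (e.toLinearMap.lTensor M).toAddMonoidHom
  have hT : Function.Bijective T :=
    L.bijective.comp ((good_bc A A' hsq F M n).comp (TensorProduct.congr (LinearEquiv.refl A M) e).bijective)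
  let e' := HHEquiv G n
  refine ⟨LinearEquiv.ofBijective
    { toFun := fun z => e'.symm (T z)
      map_add' := fun x y => by rw [map_add, map_add]
      map_smul' := fun a z => ?_ } (e'.symm.bijective.comp hT)⟩
  apply e'.injective
  refine (e'.apply_symm_apply _).trans (Eq.trans ?_ (HHEquiv_smul' G n a _).symm)
  rw [e'.apply_symm_apply]
  induction z using TensorProduct.induction_on with
  | zero => rw [smul_zero, map_zero, map_zero]
  | add x y hx hy => rw [smul_add, map_add, map_add, map_add, hx, hy]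
  | tmul m x =>
    rw [TensorProduct.smul_tmul']
    let x' : Hn (sh F) n (⊤ : X.Opens) := HHEquiv F n x
    show L (x'.comp (Ext.mk₀ ((shF X).map (bcHom A' F M (q := q) (a • m)))) (add_zero n)) =
      postH (smulSh G (globA (A := A') a)) n ⊤ (L (x'.comp (Ext.mk₀ ((shF X).map (bcHom A' F M (q := q) m))) (add_zero n)))
    have hsm : (shF X).map (bcHom A' F M (q := q) (a • m)) = (shF X).map (bcHom A' F M (q := q) m) ≫
        (CohTop.push q.base).map (smulSh G (globA (A := A') a)) := by
      have h : bcHom A' F M (q := q) (a • m) =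
          bcHom A' F M (q := q) m ≫ (Scheme.Modules.pushforward q).map (Formal.smulMod A' G a) := by
        show ((Scheme.Modules.pullbackPushforwardAdjunction q).homEquiv _ _)
          (uMap A' (qF q F) (ModuleCat.of A' M) (a • (m : ModuleCat.of A' M))) = _
        rw [uMap_smul, ← smulMod_natural, Adjunction.homEquiv_naturality_right]
        rfl
      rw [h, Functor.map_comp]
      rfl
    rw [hsm]
    refine Eq.trans (congrArg L (postComp_comp x' _ _)) ?_
    exact FRes.pushEquiv_natural q.base (mResSmul (MRes.inj G) (globA (A := A') a))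
      (epi_push_of_isAffineHom q G) (epi_push_of_isAffineHom q G) n ⊤ _

end Groth.Agent.LeadFBC
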