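import Groth.Agent.LeadFBC.Theta
import Groth.Agent.LeadBC.Exchange
import Groth.Agent.H10Coh.FinH
import Groth.Agent.H10Coh.Induction
import Mathlib.CategoryTheory.Sites.SheafCohomology.MayerVietoris
import Mathlib.Topology.Sheaves.MayerVietoris

/-!
# Cohomology with coefficients in a flat module

For a quasi-compact quasi-separated scheme `X` over `Spec A`, a quasi-coherent module `F` and a flat
`A`-module `M`, the map `M ⊗ H^n(X, F) → H^n(X, M~ ⊗ F)` is bijective.
-/

set_option autoImplicit false
set_option linter.style.haveILetI false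
set_option linter.unusedSectionVars false
set_option linter.unusedVariables false

universe u

open AlgebraicGeometry CategoryTheory CategoryTheory.Limits CategoryTheory.Abelian TopologicalSpace Opposite
open scoped TensorProduct

noncomputable section

namespace Groth.Agent.LeadFBC

open Groth.Agent.H10Coh Groth.Agent.LeadBC Groth.Agent.LeadFF Groth.Agent.H11Ample

attribute [local instance 10000] hasSheafifyAb hasWeakSheafifyAb hasExtAb enoughInjAb

variable (A : Type u) [CommRing A] {X : Scheme.{u}} [X.Over (Spec (CommRingCat.of A))] (F : X.Modules)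
  [F.IsQuasicoherent]

/-- The action of the base on the abelian sheaf of a module. -/
def ρF : A →+* End (sh F) where
  toFun a := smulSh F (globA (A := A) a)
  map_one' := by rw [map_one, smulSh_one]; rfl
  map_zero' := by rw [map_zero, smulSh_zero]
  map_mul' a b := by rw [map_mul, smulSh_mul]; rfl
  map_add' a b := by rw [map_add, smulSh_add]

variable (M : ModuleCat.{u} A)

theorem uMap_add (c c' : M) : uMap A F M (c + c') = uMap A F M c + uMap A F M c' :=
  hom_ext_affine _ _ fun V hV x => by
    show (uMap A F M (c + c')).app V x = (uMap A F M c).app V x + (uMap A F M c').app V x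
    rw [uMap_app A F M _ hV, uMap_app A F M _ hV, uMap_app A F M _ hV, TensorProduct.tmul_add, map_add]; rfl

theorem uMap_smul (a : A) (c : M) : uMap A F M (a • c) = Formal.smulMod A F a ≫ uMap A F M c :=
  hom_ext_affine _ _ fun V hV x => by
    show (uMap A F M (a • c)).app V x = (uMap A F M c).app V ((Formal.smulMod A F a).app V x)
    rw [uMap_app A F M _ hV, uMap_app A F M _ hV]
    let y : sec A F V := x
    have h : y ⊗ₜ[A] (a • c) = (a • y) ⊗ₜ[A] c := by
      rw [TensorProduct.tmul_smul, ← TensorProduct.smul_tmul']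
    exact congrArg (τ₀ A F M V) h

/-- `m ↦ (x ↦ x ⊗ m)` on abelian sheaves. -/
def μF : M →+ (sh F ⟶ sh ((CohIII.tensorAFunctor A F).obj M)) :=
  AddMonoidHom.mk' (fun c => (shF X).map (uMap A F M c)) fun c c' => by
    rw [uMap_add, Functor.map_add]

theorem μF_smul (a : A) (c : M) : μF A F M (a • c) = ρF A F a ≫ μF A F M c := by
  show (shF X).map (uMap A F M (a • c)) = _ ≫ (shF X).map (uMap A F M c)
  rw [uMap_smul, Functor.map_comp]
  rfl

theorem H0Equiv_smul (U : X.Opens) (a : A) (x : extMod (ρF A F) (Zsh U) 0) :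
    (show sec A F U from H0Equiv (sh F) U (show Hn (sh F) 0 U from a • x)) =
      a • (show sec A F U from H0Equiv (sh F) U (show Hn (sh F) 0 U from x)) :=
  H0Equiv_map (U := U) (smulSh F (globA (A := A) a)) (show Hn (sh F) 0 U from x)

/-- `H^0(U, F) ⊗ M` as sections. -/
def h0Lin (U : X.Opens) : extMod (ρF A F) (Zsh U) 0 →ₗ[A] sec A F U where
  toFun x := H0Equiv (sh F) U (show Hn (sh F) 0 U from x)
  map_add' x y := map_add (H0Equiv (sh F) U) _ _
  map_smul' := H0Equiv_smul A F U

section General

variable {G : CohTop.Ab X.toTopCat} (μ : M →+ (sh F ⟶ G)) (hμ : ∀ (a : A) (m : M), μ (a • m) = ρF A F a ≫ μ m)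

/-- Sections of `G` paired with sections of `F`. -/
def pairSec (U : X.Opens) : M ⊗[A] sec A F U →+ G.obj.obj (op U) :=
  TensorProduct.liftAddHom
    (AddMonoidHom.mk' (fun m => ((μ m).hom.app (op U)).hom) fun m m' => by rw [map_add]; rfl)
    fun a m x => by
      show ((μ (a • m)).hom.app (op U)).hom x = ((μ m).hom.app (op U)).hom _
      rw [hμ]
      rfl

/-- Goodness on an affine open: bijective on sections and vanishing of higher cohomology. -/
theorem good_affine_gen {U : X.Opens} (hU : IsAffineOpen U) (hsec : Function.Bijective (pairSec A F M μ hμ U))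
    (hvan : ∀ n, Subsingleton (Hn G (n + 1) U)) : Good (ρF A F) μ hμ (Zsh U) := by
  intro n
  cases n with
  | zero =>
    have h : ∀ z, H0Equiv G U (θ (ρF A F) μ hμ (Zsh U) 0 z) =
        pairSec A F M μ hμ U ((h0Lin A F U).lTensor M z) := fun z => by
      induction z using TensorProduct.induction_on with
      | zero => simp only [map_zero]
      | add x y hx hy => simp only [map_add, hx, hy]
      | tmul m x =>
        rw [θ_tmul, LinearMap.lTensor_tmul]
        exact H0Equiv_map (U := U) (μ m) _
    refine ((H0Equiv G U).bijective.of_comp_iff' _).1 ?_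
    rw [show (H0Equiv G U ∘ θ (ρF A F) μ hμ (Zsh U) 0) =
      pairSec A F M μ hμ U ∘ (h0Lin A F U).lTensor M from funext h]
    exact hsec.comp (TensorProduct.congr (LinearEquiv.refl A M) (LinearEquiv.ofBijective (h0Lin A F U)
      (H0Equiv (sh F) U).bijective)).bijective
  | succ n =>
    haveI := subsingleton_HnM_of_isAffineOpen F hU n
    haveI := hvan n
    haveI : Subsingleton (extMod (ρF A F) (Zsh U) (n + 1)) := ‹Subsingleton (HnM F (n + 1) U)›
    haveI : Subsingleton (M ⊗[A] extMod (ρF A F) (Zsh U) (n + 1)) :=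
      subsingleton_of_forall_eq 0 fun z => by
        induction z using TensorProduct.induction_on with
        | zero => rfl
        | tmul m x => rw [Subsingleton.elim x 0, TensorProduct.tmul_zero]
        | add x y hx hy => rw [hx, hy, add_zero]
    exact ⟨Function.injective_of_subsingleton _, fun y => ⟨0, Subsingleton.elim _ _⟩⟩

theorem good_of_isCompact [QuasiSeparatedSpace X] [Module.Flat A M]
    (haff : ∀ U : X.Opens, IsAffineOpen U → Good (ρF A F) μ hμ (Zsh U)) (U : X.Opens) (hU : IsCompact (U : Set X)) :
    Good (ρF A F) μ hμ (Zsh U) := by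
  refine qcqs_induction (fun U => Good (ρF A F) μ hμ (Zsh U)) haff (fun U V _ _ hU hV hUV => ?_) U hU
  set S := (Opens.mayerVietorisSquare (T := X) U V).shortComplex with hS
  have e₁ : S.X₁ = Zsh (U ⊓ V) := rfl
  have e₂ : S.X₂ = (Zsh U ⊞ Zsh V) := rfl
  have e₃ : S.X₃ = Zsh (U ⊔ V) := rfl
  have h := good_of_shortExact (ρF A F) μ hμ
    (Opens.mayerVietorisSquare (T := X) U V).shortComplex_shortExact
  rw [← hS, e₁, e₂, e₃] at h
  exact h hUV (good_biprod _ _ _ hU hV)

end General

theorem good_affine {U : X.Opens} (hU : IsAffineOpen U) :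
    Good (ρF A F) (μF A F M) (μF_smul A F M) (Zsh U) := by
  haveI : ((CohIII.tensorAFunctor A F).obj M).IsQuasicoherent := isQCoh_GM A F M
  refine good_affine_gen A F M (μF A F M) (μF_smul A F M) hU ?_
    (subsingleton_HnM_of_isAffineOpen ((CohIII.tensorAFunctor A F).obj M) hU)
  have h : ∀ z, pairSec A F M (μF A F M) (μF_smul A F M) U z =
      τ₀ A F M U (TensorProduct.comm A M (sec A F U) z) := fun z => by
    induction z using TensorProduct.induction_on with
    | zero => rw [map_zero, map_zero, map_zero]; rfl
    | add x y hx hy => rw [map_add, map_add, map_add, hx, hy]; rfl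
    | tmul m x => exact uMap_app A F M m hU x
  rw [funext h]
  exact (bijective_τ₀ A F M hU).comp (TensorProduct.comm A M (sec A F U)).bijective

/-- `M ⊗ H^n(X, F) → H^n(X, M~ ⊗ F)`. -/
def θX (n : ℕ) : M ⊗[A] Coh.HH X F n →+ Coh.HH X ((CohIII.tensorAFunctor A F).obj M) n :=
  TensorProduct.liftAddHom
    (AddMonoidHom.mk' (fun c => AddMonoidHom.mk' (Hm (uMap A F M c) n) fun x y => map_add _ x y)
      fun c c' => AddMonoidHom.ext fun x => by
        show Hm (uMap A F M (c + c')) n x = _
        rw [uMap_add, Hm_add]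
        rfl)
    fun a c x => by
      show Hm (uMap A F M (a • c)) n x = Hm (uMap A F M c) n (a • x)
      rw [uMap_smul, Hm_comp, Hm_smulMod]

theorem θX_tmul (n : ℕ) (c : M) (x : Coh.HH X F n) : θX A F M n (c ⊗ₜ[A] x) = Hm (uMap A F M c) n x := rfl

theorem bijective_θX [CompactSpace X] [QuasiSeparatedSpace X] [Module.Flat A M] (n : ℕ) :
    Function.Bijective (θX A F M n) := by
  have hg := good_of_isCompact A F M (μF A F M) (μF_smul A F M) (fun U hU => good_affine A F M hU) ⊤
    (by simpa using isCompact_univ) n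
  let e : Coh.HH X F n ≃ₗ[A] extMod (ρF A F) (Zsh (⊤ : X.Opens)) n :=
    { HHEquiv F n with map_smul' := fun a x => HHEquiv_smul' F n a x }
  let e' := HHEquiv ((CohIII.tensorAFunctor A F).obj M) n
  have h : ∀ z, e' (θX A F M n z) =
      θ (ρF A F) (μF A F M) (μF_smul A F M) (Zsh (⊤ : X.Opens)) n (e.toLinearMap.lTensor M z) := fun z => by
    induction z using TensorProduct.induction_on with
    | zero => simp only [map_zero]
    | add x y hx hy => simp only [map_add, hx, hy]
    | tmul c x =>
      rw [θX_tmul, LinearMap.lTensor_tmul, θ_tmul]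
      exact topEquiv_map ((shF X).map (uMap A F M c)) n x
  refine (e'.bijective.of_comp_iff' _).1 ?_
  rw [show (e' ∘ θX A F M n) = θ (ρF A F) (μF A F M) (μF_smul A F M) (Zsh (⊤ : X.Opens)) n ∘
    e.toLinearMap.lTensor M from funext h]
  exact hg.comp (TensorProduct.congr (LinearEquiv.refl A M) e).bijective

end Groth.Agent.LeadFBC
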