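import Mathlib.Algebra.Homology.DerivedCategory.Ext.ExactSequences
import Mathlib.Algebra.Homology.DerivedCategory.Ext.EnoughInjectives
import Mathlib.Algebra.Category.ModuleCat.Basic
import Mathlib.RingTheory.Flat.Basic
import Mathlib.LinearAlgebra.TensorProduct.Basic

/-!
# Coefficients in a flat module, on Ext groups

A ring `A` acts on `F` and an `A`-module `M` maps to `Hom(F, G)`, compatibly. The map
`M ⊗ Ext^n(Z, F) → Ext^n(Z, G)` is natural in `Z`, so if it is bijective on the outer terms of a short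
exact sequence and `M` is flat, it is bijective on the last one.
-/

set_option autoImplicit false
set_option linter.style.haveILetI false

universe w v u

open CategoryTheory CategoryTheory.Limits CategoryTheory.Abelian
open scoped TensorProduct

namespace Groth.Agent.LeadFBC

variable {C : Type u} [Category.{v} C] [Abelian C] [HasExt.{w} C] {A : Type w} [CommRing A] {F G : C}

/-- Postcomposition with endomorphisms, as a ring map. -/
noncomputable def postEnd (ρ : A →+* End F) (Z : C) (n : ℕ) : A →+* AddMonoid.End (Ext.{w} Z F n) where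
  toFun a := AddMonoidHom.mk' (fun x => x.comp (Ext.mk₀ (ρ a)) (add_zero n)) fun x y => Ext.add_comp x y _ _
  map_zero' := AddMonoidHom.ext fun x => by
    show x.comp (Ext.mk₀ (ρ 0)) (add_zero n) = 0
    rw [map_zero, show (0 : End F) = (0 : F ⟶ F) from rfl, Ext.mk₀_zero, Ext.comp_zero]
  map_one' := AddMonoidHom.ext fun x => by
    show x.comp (Ext.mk₀ (ρ 1)) (add_zero n) = x
    rw [map_one, End.one_def, Ext.comp_mk₀_id]
  map_add' a b := AddMonoidHom.ext fun x => by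
    show x.comp (Ext.mk₀ (ρ (a + b))) (add_zero n) =
      x.comp (Ext.mk₀ (ρ a)) (add_zero n) + x.comp (Ext.mk₀ (ρ b)) (add_zero n)
    rw [map_add]
    exact (congrArg (fun t => x.comp t (add_zero n)) (Ext.mk₀_add (ρ a : F ⟶ F) (ρ b : F ⟶ F))).trans
      (Ext.comp_add _ _ _ _)
  map_mul' a b := AddMonoidHom.ext fun x => by
    show x.comp (Ext.mk₀ (ρ (a * b))) (add_zero n) =
      (x.comp (Ext.mk₀ (ρ b)) (add_zero n)).comp (Ext.mk₀ (ρ a)) (add_zero n)
    rw [map_mul, End.mul_def, Ext.comp_assoc_of_second_deg_zero, Ext.mk₀_comp_mk₀]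

/-- `Ext^n(Z, F)` as an `A`-module. -/
noncomputable def extMod (ρ : A →+* End F) (Z : C) (n : ℕ) : ModuleCat.{w} A :=
  letI : Module A (Ext.{w} Z F n) := Module.compHom _ (postEnd ρ Z n)
  ModuleCat.of A (Ext.{w} Z F n)

variable (ρ : A →+* End F)

theorem extMod_smul {Z : C} {n : ℕ} (a : A) (x : extMod ρ Z n) :
    a • x = (show Ext.{w} Z F n from x).comp (Ext.mk₀ (ρ a)) (add_zero n) := rfl

/-- Precomposition is linear. -/
noncomputable def pre {Z Z' : C} {k n n' : ℕ} (α : Ext.{w} Z' Z k) (h : k + n = n') :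
    extMod ρ Z n →ₗ[A] extMod ρ Z' n' where
  toFun x := α.comp (show Ext.{w} Z F n from x) h
  map_add' x y := Ext.comp_add α x y h
  map_smul' a x := (Ext.comp_assoc_of_third_deg_zero α (show Ext.{w} Z F n from x) (Ext.mk₀ (ρ a)) h).symm

theorem pre_apply {Z Z' : C} {k n n' : ℕ} (α : Ext.{w} Z' Z k) (h : k + n = n') (x : extMod ρ Z n) :
    pre ρ α h x = α.comp (show Ext.{w} Z F n from x) h := rfl

variable {M : Type w} [AddCommGroup M] [Module A M] (μ : M →+ (F ⟶ G))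
  (hμ : ∀ (a : A) (m : M), μ (a • m) = ρ a ≫ μ m)

/-- `M ⊗ Ext^n(Z, F) → Ext^n(Z, G)`, `m ⊗ x ↦ (μ m)_* x`. -/
noncomputable def θ (Z : C) (n : ℕ) : M ⊗[A] extMod ρ Z n →+ Ext.{w} Z G n :=
  TensorProduct.liftAddHom
    (AddMonoidHom.mk' (fun m => AddMonoidHom.mk'
      (fun x : extMod ρ Z n => (show Ext.{w} Z F n from x).comp (Ext.mk₀ (μ m)) (add_zero n))
      fun x y => Ext.add_comp x y _ _) fun m m' => AddMonoidHom.ext fun x => by
        show (show Ext.{w} Z F n from x).comp (Ext.mk₀ (μ (m + m'))) (add_zero n) = _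
        rw [map_add, Ext.mk₀_add, Ext.comp_add]
        rfl)
    fun a m x => by
      show (show Ext.{w} Z F n from x).comp (Ext.mk₀ (μ (a • m))) (add_zero n) =
        ((show Ext.{w} Z F n from x).comp (Ext.mk₀ (ρ a)) (add_zero n)).comp (Ext.mk₀ (μ m)) (add_zero n)
      rw [hμ, Ext.comp_assoc_of_second_deg_zero, Ext.mk₀_comp_mk₀]

theorem θ_tmul {Z : C} {n : ℕ} (m : M) (x : extMod ρ Z n) :
    θ ρ μ hμ Z n (m ⊗ₜ[A] x) = (show Ext.{w} Z F n from x).comp (Ext.mk₀ (μ m)) (add_zero n) := rfl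

theorem θ_pre {Z Z' : C} {k n n' : ℕ} (α : Ext.{w} Z' Z k) (h : k + n = n')
    (z : M ⊗[A] extMod ρ Z n) :
    θ ρ μ hμ Z' n' ((pre ρ α h).lTensor M z) = α.comp (θ ρ μ hμ Z n z) h := by
  induction z using TensorProduct.induction_on with
  | zero => simp only [map_zero, Ext.comp_zero]
  | add x y hx hy => simp only [map_add, Ext.comp_add, hx, hy]
  | tmul m x =>
    rw [LinearMap.lTensor_tmul, θ_tmul, θ_tmul, pre_apply]
    exact Ext.comp_assoc_of_third_deg_zero _ _ _ _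

/-- Bijectivity at `Z` in every degree. -/
def Good (Z : C) : Prop := ∀ n, Function.Bijective (θ ρ μ hμ Z n)

theorem lTensor_pre_mk₀_comp {Z Z' Z'' : C} {n : ℕ} (f : Z'' ⟶ Z') (g : Z' ⟶ Z)
    (z : M ⊗[A] extMod ρ Z n) :
    (pre ρ (Ext.mk₀ f) (zero_add n)).lTensor M ((pre ρ (Ext.mk₀ g) (zero_add n)).lTensor M z) =
      (pre ρ (Ext.mk₀ (f ≫ g)) (zero_add n)).lTensor M z := by
  rw [← LinearMap.comp_apply, ← LinearMap.lTensor_comp]
  refine congrArg (fun t => LinearMap.lTensor M t z) (LinearMap.ext fun x => ?_)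
  exact Ext.mk₀_comp_mk₀_assoc f g (show Ext.{w} Z F n from x)

theorem lTensor_pre_mk₀_id {Z : C} {n : ℕ} (z : M ⊗[A] extMod ρ Z n) :
    (pre ρ (Ext.mk₀ (𝟙 Z)) (zero_add n)).lTensor M z = z := by
  rw [show pre ρ (Ext.mk₀ (𝟙 Z)) (zero_add n) = LinearMap.id from
    LinearMap.ext fun x => Ext.mk₀_id_comp (show Ext.{w} Z F n from x), LinearMap.lTensor_id, LinearMap.id_apply]

theorem lTensor_pre_mk₀_add {Z Z' : C} {n : ℕ} (f g : Z' ⟶ Z) (z : M ⊗[A] extMod ρ Z n) :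
    (pre ρ (Ext.mk₀ (f + g)) (zero_add n)).lTensor M z =
      (pre ρ (Ext.mk₀ f) (zero_add n)).lTensor M z + (pre ρ (Ext.mk₀ g) (zero_add n)).lTensor M z := by
  rw [← LinearMap.add_apply, ← LinearMap.lTensor_add]
  refine congrArg (fun t => LinearMap.lTensor M t z) (LinearMap.ext fun x => ?_)
  show (Ext.mk₀ (f + g)).comp (show Ext.{w} Z F n from x) (zero_add n) = _
  rw [Ext.mk₀_add, Ext.add_comp]
  rfl

theorem good_of_iso {Z Z' : C} (e : Z' ≅ Z) (h : Good ρ μ hμ Z) : Good ρ μ hμ Z' := fun n => by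
  constructor
  · refine (injective_iff_map_eq_zero _).2 fun z hz => ?_
    have h1 : (pre ρ (Ext.mk₀ e.inv) (zero_add n)).lTensor M z = 0 :=
      (h n).1 (by rw [θ_pre, hz, Ext.comp_zero, map_zero])
    rw [← lTensor_pre_mk₀_id ρ z, ← e.hom_inv_id, ← lTensor_pre_mk₀_comp, h1, map_zero]
  · intro y
    obtain ⟨z, hz⟩ := (h n).2 ((Ext.mk₀ e.inv).comp y (zero_add n))
    exact ⟨(pre ρ (Ext.mk₀ e.hom) (zero_add n)).lTensor M z, by
      rw [θ_pre, hz, Ext.mk₀_comp_mk₀_assoc, e.hom_inv_id, Ext.mk₀_id_comp]⟩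

theorem good_biprod {Z Z' : C} (h : Good ρ μ hμ Z) (h' : Good ρ μ hμ Z') : Good ρ μ hμ (Z ⊞ Z') := fun n => by
  constructor
  · refine (injective_iff_map_eq_zero _).2 fun z hz => ?_
    have h1 : (pre ρ (Ext.mk₀ (biprod.inl : Z ⟶ Z ⊞ Z')) (zero_add n)).lTensor M z = 0 :=
      (h n).1 (by rw [θ_pre, hz, Ext.comp_zero, map_zero])
    have h2 : (pre ρ (Ext.mk₀ (biprod.inr : Z' ⟶ Z ⊞ Z')) (zero_add n)).lTensor M z = 0 :=
      (h' n).1 (by rw [θ_pre, hz, Ext.comp_zero, map_zero])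
    rw [← lTensor_pre_mk₀_id ρ z, ← biprod.total, lTensor_pre_mk₀_add, ← lTensor_pre_mk₀_comp,
      ← lTensor_pre_mk₀_comp, h1, h2, map_zero, map_zero, add_zero]
  · intro y
    obtain ⟨a, ha⟩ := (h n).2 ((Ext.mk₀ biprod.inl).comp y (zero_add n))
    obtain ⟨b, hb⟩ := (h' n).2 ((Ext.mk₀ biprod.inr).comp y (zero_add n))
    refine ⟨(pre ρ (Ext.mk₀ (biprod.fst : Z ⊞ Z' ⟶ Z)) (zero_add n)).lTensor M a +
      (pre ρ (Ext.mk₀ (biprod.snd : Z ⊞ Z' ⟶ Z')) (zero_add n)).lTensor M b, ?_⟩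
    rw [map_add, θ_pre, θ_pre, ha, hb, Ext.mk₀_comp_mk₀_assoc, Ext.mk₀_comp_mk₀_assoc, ← Ext.add_comp,
      ← Ext.mk₀_add, biprod.total, Ext.mk₀_id_comp]

theorem good_of_shortExact [Module.Flat A M] {S : ShortComplex C} (hS : S.ShortExact)
    (h₁ : Good ρ μ hμ S.X₁) (h₂ : Good ρ μ hμ S.X₂) : Good ρ μ hμ S.X₃ := by
  have hg : ∀ n, Function.Exact (pre ρ (Ext.mk₀ S.g) (zero_add n) : extMod ρ S.X₃ n → extMod ρ S.X₂ n)
      (pre ρ (Ext.mk₀ S.f) (zero_add n) : extMod ρ S.X₂ n → extMod ρ S.X₁ n) := fun n x =>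
    ⟨fun hx => Ext.contravariant_sequence_exact₂ hS _ x hx, by
      rintro ⟨y, rfl⟩
      show (Ext.mk₀ S.f).comp ((Ext.mk₀ S.g).comp (show Ext.{w} S.X₃ F n from y) (zero_add n)) (zero_add n) = 0
      rw [Ext.mk₀_comp_mk₀_assoc, S.zero, Ext.mk₀_zero, Ext.zero_comp]⟩
  have hd : ∀ n, Function.Exact (pre ρ hS.extClass (add_comm 1 n) : extMod ρ S.X₁ n → extMod ρ S.X₃ (n + 1))
      (pre ρ (Ext.mk₀ S.g) (zero_add (n + 1)) : extMod ρ S.X₃ (n + 1) → extMod ρ S.X₂ (n + 1)) := fun n x =>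
    ⟨fun hx => Ext.contravariant_sequence_exact₃ hS _ x hx (add_comm 1 n), by
      rintro ⟨y, rfl⟩
      show (Ext.mk₀ S.g).comp (hS.extClass.comp (show Ext.{w} S.X₁ F n from y) (add_comm 1 n)) (zero_add (n + 1)) = 0
      rw [← Ext.comp_assoc (Ext.mk₀ S.g) hS.extClass _ (zero_add 1) (add_comm 1 n) (by omega),
        hS.comp_extClass, Ext.zero_comp]⟩
  have hfδ : ∀ n (x : extMod ρ S.X₂ n), pre ρ hS.extClass (add_comm 1 n) (pre ρ (Ext.mk₀ S.f) (zero_add n) x) = 0 := by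
    intro n x
    show hS.extClass.comp ((Ext.mk₀ S.f).comp (show Ext.{w} S.X₂ F n from x) (zero_add n)) (add_comm 1 n) = 0
    rw [← Ext.comp_assoc hS.extClass (Ext.mk₀ S.f) _ (add_zero 1) (zero_add n) (by omega),
      hS.extClass_comp, Ext.zero_comp]
  intro n
  cases n with
  | zero =>
    haveI := hS.epi_g
    constructor
    · refine (injective_iff_map_eq_zero _).2 fun z hz => ?_
      have hinj : Function.Injective (pre ρ (Ext.mk₀ S.g) (zero_add 0) : extMod ρ S.X₃ 0 → extMod ρ S.X₂ 0) :=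
        Ext.precomp_mk₀_injective_of_epi F S.g
      refine Module.Flat.lTensor_preserves_injective_linearMap (M := M) _ hinj ?_
      rw [map_zero]
      exact (h₂ 0).1 (by rw [θ_pre, hz, Ext.comp_zero, map_zero])
    · intro y
      obtain ⟨b, hb⟩ := (h₂ 0).2 ((Ext.mk₀ S.g).comp y (zero_add 0))
      obtain ⟨a, ha⟩ := ((Module.Flat.lTensor_exact M (hg 0)) b).1 ((h₁ 0).1 (by
        rw [θ_pre, hb, Ext.mk₀_comp_mk₀_assoc, S.zero, Ext.mk₀_zero, Ext.zero_comp, map_zero]))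
      refine ⟨a, Ext.precomp_mk₀_injective_of_epi G S.g ?_⟩
      show (Ext.mk₀ S.g).comp (θ ρ μ hμ S.X₃ 0 a) (zero_add 0) = (Ext.mk₀ S.g).comp y (zero_add 0)
      rw [← θ_pre, ha, hb]
  | succ n =>
    constructor
    · refine (injective_iff_map_eq_zero _).2 fun z hz => ?_
      obtain ⟨a, rfl⟩ := ((Module.Flat.lTensor_exact M (hd n)) z).1
        ((h₂ (n + 1)).1 (by rw [θ_pre, hz, Ext.comp_zero, map_zero]))
      rw [θ_pre] at hz
      obtain ⟨b₀, hb₀⟩ := Ext.contravariant_sequence_exact₁ hS _ (θ ρ μ hμ S.X₁ n a) _ hz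
      obtain ⟨b, rfl⟩ := (h₂ n).2 b₀
      rw [← θ_pre] at hb₀
      rw [← (h₁ n).1 hb₀, ← LinearMap.comp_apply, ← LinearMap.lTensor_comp,
        show (pre ρ hS.extClass (add_comm 1 n)) ∘ₗ (pre ρ (Ext.mk₀ S.f) (zero_add n)) = 0 from
          LinearMap.ext (hfδ n), LinearMap.lTensor_zero, LinearMap.zero_apply]
    · intro y
      obtain ⟨b, hb⟩ := (h₂ (n + 1)).2 ((Ext.mk₀ S.g).comp y (zero_add (n + 1)))
      obtain ⟨a, ha⟩ := ((Module.Flat.lTensor_exact M (hg (n + 1))) b).1 ((h₁ (n + 1)).1 (by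
        rw [θ_pre, hb, Ext.mk₀_comp_mk₀_assoc, S.zero, Ext.mk₀_zero, Ext.zero_comp, map_zero]))
      obtain ⟨c₀, hc₀⟩ := Ext.contravariant_sequence_exact₃ hS _ (y - θ ρ μ hμ S.X₃ (n + 1) a) (by
        rw [sub_eq_add_neg, Ext.comp_add, Ext.comp_neg, ← θ_pre, ha, hb, add_neg_cancel]) (add_comm 1 n)
      obtain ⟨c, rfl⟩ := (h₁ n).2 c₀
      refine ⟨a + (pre ρ hS.extClass (add_comm 1 n)).lTensor M c, ?_⟩
      rw [map_add, θ_pre, hc₀, add_sub_cancel]

end Groth.Agent.LeadFBC
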